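import Mathlib
import Groth.Agent.Lib.Helper5.TorAmp.PerfAmp

set_option autoImplicit false
universe u
open CategoryTheory Limits MonoidalCategory Pretriangulated DerivedCategory ZeroObject
attribute [local instance] HasDerivedCategory.standard

namespace Groth.Agent.Helper5.ProjAmp
open Groth.Agent.Helper5.TorAmp Groth.Agent.S2067 Groth.Agent.Helper5.DRingCone
variable {R : Type u} [CommRing R]

/-- projective amplitude in `[a, b]` -/
def HasProjAmp (a b : ℤ) (L : Dual.D R) : Prop :=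
  ∃ P : DRing.Cx R, DRing.VanishesOutside P a b ∧ (∀ i : ℤ, Module.Projective R (P.X i)) ∧
      Nonempty (DRing.toD P ≅ L)

theorem kproj_of_projAmp {a b : ℤ} (P : DRing.Cx R) (h1 : DRing.VanishesOutside P a b)
    (h2 : ∀ i : ℤ, Module.Projective R (P.X i)) : P.IsKProjective :=
  kproj_of_proj P b (fun i hi => h1 i (Or.inr hi)) h2

/-- (1) of S6990 -/
theorem hom_eq_zero_of_projAmp {a b : ℤ} {L : Dual.D R} (hL : HasProjAmp a b L) (K : Dual.D R)
    (hK : ∀ i : ℤ, a ≤ i → IsZero ((homologyFunctor (ModuleCat.{u} R) i).obj K)) (g : L ⟶ K) :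
    g = 0 := by
  obtain ⟨P, h1, h2, ⟨e⟩⟩ := hL
  have := kproj_of_projAmp P h1 h2
  have h := hom_eq_zero P a (fun i hi => h1 i (Or.inl hi)) K hK (e.hom ≫ g)
  have := congrArg (fun t => e.inv ≫ t) h
  simpa using this

theorem isZero_H_shift (K : Dual.D R) (n i j : ℤ) (h : i + n = j)
    (hK : IsZero ((homologyFunctor (ModuleCat.{u} R) j).obj K)) :
    IsZero ((homologyFunctor (ModuleCat.{u} R) i).obj (K⟦n⟧)) := by
  have e := ((homologyFunctor (ModuleCat.{u} R) 0).shiftIso n i j (by omega)).app K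
  exact hK.of_iso e

/-- (2) of S6990 -/
theorem split_of_projAmp {a b : ℤ} (T : Triangle (Dual.D R)) (hT : T ∈ distTriang _)
    (hL : HasProjAmp a b T.obj₃)
    (hK : ∀ i : ℤ, a + 1 ≤ i → IsZero ((homologyFunctor (ModuleCat.{u} R) i).obj T.obj₁)) :
    ∃ e : T.obj₂ ≅ T.obj₁ ⊞ T.obj₃, T.mor₁ ≫ e.hom = biprod.inl ∧ e.hom ≫ biprod.snd = T.mor₂ := by
  have h0 : T.mor₃ = 0 := by
    apply hom_eq_zero_of_projAmp hL
    intro i hi
    exact isZero_H_shift T.obj₁ 1 i (i + 1) rfl (hK _ (by omega))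
  obtain ⟨e, h1, h2⟩ := exists_iso_binaryBiproduct_of_distTriang T hT h0
  exact ⟨e, h1, h2.symm⟩

end Groth.Agent.Helper5.ProjAmp
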