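import Mathlib
import Groth.Agent.Lib.Helper5.ProjAmp.Split
import Groth.Agent.Lib.Helper5.DRing.TruncTri
import Groth.Agent.Lib.Helper5.DRing.ToSingle

set_option autoImplicit false
universe u
open CategoryTheory Limits Pretriangulated DerivedCategory ZeroObject
attribute [local instance] HasDerivedCategory.standard

namespace Groth.Agent.Helper5.ProjAmp
open Groth.Agent.Helper5.TorAmp Groth.Agent.Helper5.ToSingle Groth.Agent.Helper5.TruncTri
  Groth.Agent.Helper5.FlatAcyc
variable {R : Type u} [CommRing R]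

/-- the natural identification `M[0][-a] ≅ Q (M placed in degree a)` -/
noncomputable def θ (a : ℤ) (M : ModuleCat.{u} R) :
    (shiftFunctor (Dual.D R) (-a)).obj ((singleFunctor (ModuleCat.{u} R) 0).obj M) ≅
      Q.obj ((HomologicalComplex.single (ModuleCat.{u} R) (ComplexShape.up ℤ) a).obj M) :=
  ((singleFunctors (ModuleCat.{u} R)).shiftIso (-a) a 0 (by omega)).app M ≪≫
    (singleFunctorIsoCompQ (ModuleCat.{u} R) a).app M

set_option backward.defeqAttrib.useBackward true in
set_option backward.isDefEq.respectTransparency false in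
theorem θ_naturality (a : ℤ) {M M' : ModuleCat.{u} R} (g : M ⟶ M') :
    (shiftFunctor (Dual.D R) (-a)).map ((singleFunctor (ModuleCat.{u} R) 0).map g) ≫ (θ a M').hom =
      (θ a M).hom ≫
        Q.map ((HomologicalComplex.single (ModuleCat.{u} R) (ComplexShape.up ℤ) a).map g) := by
  have h1 := ((singleFunctors (ModuleCat.{u} R)).shiftIso (-a) a 0 (by omega)).hom.naturality g
  have h2 := (singleFunctorIsoCompQ (ModuleCat.{u} R) a).hom.naturality g
  simp only [θ, Iso.trans_hom, Iso.app_hom, Category.assoc]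
  erw [reassoc_of% h1, h2]

end Groth.Agent.Helper5.ProjAmp

namespace Groth.Agent.Helper5.ProjAmp
open Groth.Agent.Helper5.TorAmp Groth.Agent.Helper5.ToSingle Groth.Agent.Helper5.TruncTri
  Groth.Agent.Helper5.FlatAcyc
variable {R : Type u} [CommRing R]

/-- The injectivity hypothesis of S7003 for one injection `g`. -/
def InjHyp (a : ℤ) (K : Dual.D R) : Prop :=
  ∀ (M M' : Type u) [AddCommGroup M] [Module R M] [AddCommGroup M'] [Module R M'] (g : M →ₗ[R] M'),
      Function.Injective g → Function.Injective (fun x : K ⟶ (shiftFunctor (Dual.D R) (-a)).obj (Dual.inD R M) =>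
        x ≫ (shiftFunctor (Dual.D R) (-a)).map
          ((DerivedCategory.singleFunctor (ModuleCat.{u} R) 0).map (ModuleCat.ofHom g)))

/-- chain-level consequence of the injectivity hypothesis -/
theorem Q_map_eq_zero_of_injHyp {a : ℤ} {K : Dual.D R} (h : InjHyp a K) (P : DRing.Cx R)
    (eP : DRing.toD P ≅ K) (M M' : Type u) [AddCommGroup M] [Module R M] [AddCommGroup M']
    [Module R M'] (g : M →ₗ[R] M') (hg : Function.Injective g)
    (x : P ⟶ (HomologicalComplex.single (ModuleCat.{u} R) (ComplexShape.up ℤ) a).obj (ModuleCat.of R M))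
    (hx : Q.map (x ≫ (HomologicalComplex.single (ModuleCat.{u} R) (ComplexShape.up ℤ) a).map
      (ModuleCat.ofHom g)) = 0) : Q.map x = 0 := by
  have h1 := h M M' g hg
  let y : K ⟶ (shiftFunctor (Dual.D R) (-a)).obj (Dual.inD R M) :=
    eP.inv ≫ Q.map x ≫ (θ a (ModuleCat.of R M)).inv
  have hy : y ≫ (shiftFunctor (Dual.D R) (-a)).map
      ((DerivedCategory.singleFunctor (ModuleCat.{u} R) 0).map (ModuleCat.ofHom g)) = 0 := by
    have hn := θ_naturality a (ModuleCat.ofHom g)
    have hn' : (θ a (ModuleCat.of R M)).inv ≫ (shiftFunctor (Dual.D R) (-a)).map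
        ((singleFunctor (ModuleCat.{u} R) 0).map (ModuleCat.ofHom g)) =
        Q.map ((HomologicalComplex.single (ModuleCat.{u} R) (ComplexShape.up ℤ) a).map
          (ModuleCat.ofHom g)) ≫ (θ a (ModuleCat.of R M')).inv := by
      rw [Iso.inv_comp_eq, ← Category.assoc, ← hn, Category.assoc, Iso.hom_inv_id, Category.comp_id]
    dsimp only [y]
    rw [Category.assoc, Category.assoc, hn', ← Category.assoc (Q.map x), ← Functor.map_comp, hx,
      zero_comp, comp_zero]
  have h0 : y = 0 := h1 (by
    show y ≫ _ = 0 ≫ _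
    rw [hy, zero_comp])
  have h2 : Q.map x = eP.hom ≫ y ≫ (θ a (ModuleCat.of R M)).hom := by
    dsimp only [y]
    rw [Category.assoc, Category.assoc, Iso.inv_hom_id, Category.comp_id, Iso.hom_inv_id_assoc]
  rw [h2, h0, zero_comp, comp_zero]

end Groth.Agent.Helper5.ProjAmp

namespace Groth.Agent.Helper5.ProjAmp
open Groth.Agent.Helper5.TorAmp Groth.Agent.Helper5.ToSingle Groth.Agent.Helper5.TruncTri
  Groth.Agent.Helper5.FlatAcyc
variable {R : Type u} [CommRing R]

theorem toSingle_comp (P : DRing.Cx R) (a : ℤ) {M M' : ModuleCat.{u} R} (φ : P.X a ⟶ M)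
    (hφ : P.d (a - 1) a ≫ φ = 0) (g : M ⟶ M') :
    toSingle P a φ hφ ≫ (HomologicalComplex.single (ModuleCat.{u} R) (ComplexShape.up ℤ) a).map g =
      toSingle P a (φ ≫ g) (by rw [reassoc_of% hφ, zero_comp]) := by
  apply HomologicalComplex.to_single_hom_ext
  rw [HomologicalComplex.comp_f, HomologicalComplex.mkHomToSingle_f,
    HomologicalComplex.mkHomToSingle_f, HomologicalComplex.single_map_f_self]
  simp

/-- the image of `d^a` is a direct summand of `P^{a+1}` under the injectivity hypothesis -/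
theorem projective_quotient_of_injHyp {a : ℤ} {K : Dual.D R} (h : InjHyp a K) (P : DRing.Cx R)
    [P.IsKProjective] (eP : DRing.toD P ≅ K) [Module.Projective R (P.X (a + 1))] :
    Module.Projective R (P.X (a + 1) ⧸ LinearMap.range (P.d a (a + 1)).hom) := by
  set d1 := (P.d a (a + 1)).hom with hd1
  let C' := LinearMap.range d1
  let φ : P.X a ⟶ ModuleCat.of R C' := ModuleCat.ofHom d1.rangeRestrict
  have hφ : P.d (a - 1) a ≫ φ = 0 := by
    ext y
    have h1 : (P.d a (a + 1)).hom ((P.d (a - 1) a).hom y) = 0 := by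
      have := congrArg (fun f => f.hom y) (P.d_comp_d (a - 1) a (a + 1))
      exact this
    exact h1
  have hcomp : φ ≫ ModuleCat.ofHom C'.subtype = P.d a (a + 1) := by
    ext y
    rfl
  have h0 : Q.map (toSingle P a φ hφ) = 0 := by
    refine Q_map_eq_zero_of_injHyp h P eP C' (P.X (a + 1)) C'.subtype C'.injective_subtype _ ?_
    rw [toSingle_comp]
    exact Q_map_toSingle_eq_zero P a _ _ (𝟙 _) (by rw [hcomp, Category.comp_id])
  obtain ⟨r, hr⟩ := exists_factor P a φ hφ h0
  have hr' : ∀ y : P.X a, r.hom (d1 y) = ⟨d1 y, ⟨y, rfl⟩⟩ := by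
    intro y
    have := congrArg (fun f => f.hom y) hr
    exact this.symm
  have hrι : ∀ c : C', r.hom c.1 = c := by
    rintro ⟨c, y, rfl⟩
    exact hr' y
  -- the section of the quotient map
  let s : (P.X (a + 1) ⧸ C') →ₗ[R] P.X (a + 1) :=
    C'.liftQ (LinearMap.id - C'.subtype ∘ₗ r.hom) (by
      intro v hv
      have := hrι ⟨v, hv⟩
      simp [LinearMap.mem_ker, this])
  refine Module.Projective.of_split s C'.mkQ ?_
  ext v
  simp only [LinearMap.coe_comp, Function.comp_apply, Submodule.mkQ_apply, LinearMap.id_coe, id_eq,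
    s, Submodule.liftQ_apply, LinearMap.sub_apply, Submodule.coe_subtype]
  rw [Submodule.Quotient.mk_sub, sub_eq_self, Submodule.Quotient.mk_eq_zero]
  exact (r.hom v).2

end Groth.Agent.Helper5.ProjAmp

namespace Groth.Agent.Helper5.ProjAmp
open Groth.Agent.Helper5.TorAmp Groth.Agent.Helper5.ToSingle Groth.Agent.Helper5.TruncTri
  Groth.Agent.Helper5.FlatAcyc
variable {R : Type u} [CommRing R]

theorem module_projective_of_projective (X : ModuleCat.{u} R) [Projective X] :
    Module.Projective R X :=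
  (IsProjective.iff_projective (R := R) X).mpr (by
    have : ModuleCat.of R X = X := rfl
    rw [this]; infer_instance)

/-- projective amplitude of `τ_{≥ a+1} K` under the injectivity hypothesis -/
theorem hasProjAmp_truncGE_of_injHyp {a : ℤ} {K : Dual.D R} (h : InjHyp a K) (b : ℤ) [K.IsLE b] :
    HasProjAmp (a + 1) b ((TStructure.t.truncGE (a + 1)).obj K) := by
  obtain ⟨P, hPb, hPproj, hPK, ⟨eP⟩⟩ := exists_proj_rep K b
  have hmp : ∀ i, Module.Projective R (P.X i) := fun i => by
    have := hPproj i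
    exact module_projective_of_projective (P.X i)
  have := hmp (a + 1)
  have hq := projective_quotient_of_injHyp h P eP
  obtain ⟨e₁, e₃, -, -⟩ := exists_truncIso P a (a + 1) rfl
  refine ⟨P.truncGE (a + 1), ?_, ?_,
    ⟨e₃.symm ≪≫ (TStructure.t.truncGE (a + 1)).mapIso eP⟩⟩
  · intro i hi
    rcases hi with hi | hi
    · exact (P.truncGE (a + 1)).isZero_of_isStrictlyGE (a + 1) i hi
    · rcases lt_trichotomy i (a + 1) with h1 | h1 | h1
      · exact (P.truncGE (a + 1)).isZero_of_isStrictlyGE (a + 1) i h1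
      · subst h1
        exact (isZero_opcycles_of_isZero P _ (hPb _ hi)).of_iso (P.truncGEXIsoOpcycles _)
      · exact (hPb i hi).of_iso (P.truncGEXIso (a + 1) i h1)
  · intro i
    rcases lt_trichotomy i (a + 1) with h1 | h1 | h1
    · have : Subsingleton ((P.truncGE (a + 1)).X i) :=
        ModuleCat.subsingleton_of_isZero ((P.truncGE (a + 1)).isZero_of_isStrictlyGE (a + 1) i h1)
      infer_instance
    · subst h1
      let e := P.truncGEXIsoOpcycles (a + 1) ≪≫ opcyclesIsoQuotient P a (a + 1) rfl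
      exact Module.Projective.of_equiv e.symm.toLinearEquiv
    · have := hmp i
      exact Module.Projective.of_equiv (P.truncGEXIso (a + 1) i h1).symm.toLinearEquiv

/-- S7003 -/
theorem s7003 (a : ℤ) (K : Dual.D R)
    (hKb : ∃ b : ℤ, ∀ i : ℤ, b < i → Subsingleton (Dual.HD R K i)) (h : InjHyp a K) :
    (∃ e : K ≅ (TStructure.t.truncLT (a + 1)).obj K ⊞ (TStructure.t.truncGE (a + 1)).obj K,
      (TStructure.t.truncLTι (a + 1)).app K ≫ e.hom = biprod.inl ∧
        e.hom ≫ biprod.snd = (TStructure.t.truncGEπ (a + 1)).app K) ∧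
      ∃ (P : DRing.Cx R) (b : ℤ), DRing.VanishesOutside P (a + 1) b ∧
        (∀ i : ℤ, Module.Projective R (P.X i)) ∧
        Nonempty (DRing.toD P ≅ (TStructure.t.truncGE (a + 1)).obj K) := by
  obtain ⟨b, hb⟩ := hKb
  have hLE : K.IsLE b := by
    rw [isLE_iff]
    intro i hi
    have := hb i hi
    exact ModuleCat.isZero_of_subsingleton _
  have hamp := hasProjAmp_truncGE_of_injHyp h b
  refine ⟨?_, ?_⟩
  · have hT := TStructure.t.triangleLTGE_distinguished (a + 1) K
    have := split_of_projAmp _ hT hamp (fun i hi => by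
      have : TStructure.t.IsLE ((TStructure.t.truncLT (a + 1)).obj K) a :=
        TStructure.t.isLE_truncLT_obj K (a + 1) a
      exact isZero_of_isLE ((TStructure.t.truncLT (a + 1)).obj K) a i (by omega))
    exact this
  · obtain ⟨P, h1, h2, h3⟩ := hamp
    exact ⟨P, b, h1, h2, h3⟩

end Groth.Agent.Helper5.ProjAmp
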