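import Mathlib
import Groth.Agent.Lib.Helper5.ProjAmp.SplitTrunc

set_option autoImplicit false
universe u
open CategoryTheory Limits Pretriangulated DerivedCategory ZeroObject
attribute [local instance] HasDerivedCategory.standard

namespace Groth.Agent.Helper5.ProjAmp
open Groth.Agent.Helper5.TorAmp Groth.Agent.Helper5.ToSingle Groth.Agent.Helper5.TruncTri
  Groth.Agent.Helper5.FlatAcyc
variable {R : Type u} [CommRing R]

/-- The vanishing hypothesis of S7004. -/
def VanHyp (a : ℤ) (K : Dual.D R) : Prop :=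
  ∀ (M : Type u) [AddCommGroup M] [Module R M],
      Subsingleton (K ⟶ (shiftFunctor (Dual.D R) (-a)).obj (Dual.inD R M))

theorem VanHyp.injHyp {a : ℤ} {K : Dual.D R} (h : VanHyp a K) : InjHyp a K := by
  intro M M' _ _ _ _ g _
  have := h M
  exact Function.injective_of_subsingleton _

theorem Q_map_eq_zero_of_vanHyp {a : ℤ} {K : Dual.D R} (h : VanHyp a K) (P : DRing.Cx R)
    (eP : DRing.toD P ≅ K) (M : Type u) [AddCommGroup M] [Module R M]
    (x : P ⟶ (HomologicalComplex.single (ModuleCat.{u} R) (ComplexShape.up ℤ) a).obj (ModuleCat.of R M)) :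
    Q.map x = 0 := by
  have := h M
  let y : K ⟶ (shiftFunctor (Dual.D R) (-a)).obj (Dual.inD R M) :=
    eP.inv ≫ Q.map x ≫ (θ a (ModuleCat.of R M)).inv
  have h0 : y = 0 := Subsingleton.elim _ _
  have h2 : Q.map x = eP.hom ≫ y ≫ (θ a (ModuleCat.of R M)).hom := by
    dsimp only [y]
    rw [Category.assoc, Category.assoc, Iso.inv_hom_id, Category.comp_id, Iso.hom_inv_id_assoc]
  rw [h2, h0, zero_comp, comp_zero]

/-- exactness in degree `a` of a K-projective representative under the vanishing hypothesis -/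
theorem exactAt_of_vanHyp {a : ℤ} {K : Dual.D R} (h : VanHyp a K) (P : DRing.Cx R)
    [P.IsKProjective] (eP : DRing.toD P ≅ K) : P.ExactAt a := by
  set d0 := (P.d (a - 1) a).hom with hd0
  let φ : P.X a ⟶ ModuleCat.of R (P.X a ⧸ LinearMap.range d0) :=
    ModuleCat.ofHom (LinearMap.range d0).mkQ
  have hφ : P.d (a - 1) a ≫ φ = 0 := by
    ext y
    show (LinearMap.range d0).mkQ (d0 y) = 0
    simp
  obtain ⟨g, hg⟩ := exists_factor P a φ hφ (Q_map_eq_zero_of_vanHyp h P eP _ _)
  refine exactAt_of_exact P (a - 1) a (a + 1) (by omega) rfl ?_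
  rw [LinearMap.exact_iff]
  apply le_antisymm
  · intro y hy
    have h1 : φ.hom y = 0 := by
      rw [hg]
      show g.hom ((P.d a (a + 1)).hom y) = 0
      rw [LinearMap.mem_ker.1 hy, map_zero]
    have h2 : (LinearMap.range d0).mkQ y = 0 := h1
    rwa [Submodule.mkQ_apply, Submodule.Quotient.mk_eq_zero] at h2
  · rintro _ ⟨y, rfl⟩
    rw [LinearMap.mem_ker]
    have := congrArg (fun f => f.hom y) (P.d_comp_d (a - 1) a (a + 1))
    exact this

end Groth.Agent.Helper5.ProjAmp

namespace Groth.Agent.Helper5.ProjAmp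
open Groth.Agent.Helper5.TorAmp Groth.Agent.Helper5.ToSingle Groth.Agent.Helper5.TruncTri
  Groth.Agent.Helper5.FlatAcyc
variable {R : Type u} [CommRing R]

/-- if `H^a(K) = 0` then `τ_{<a} K ≅ τ_{<a+1} K` compatibly with the maps to `K` -/
theorem exists_truncLT_iso (a : ℤ) (K : Dual.D R)
    (hK : IsZero ((homologyFunctor (ModuleCat.{u} R) a).obj K)) :
    ∃ φ : (TStructure.t.truncLT a).obj K ≅ (TStructure.t.truncLT (a + 1)).obj K,
      φ.hom ≫ (TStructure.t.truncLTι (a + 1)).app K = (TStructure.t.truncLTι a).app K := by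
  set X := (TStructure.t.truncLT (a + 1)).obj K with hX
  have hXa : X.IsLE a := TStructure.t.isLE_truncLT_obj K (a + 1) a
  have hB : ((TStructure.t.truncGE (a + 1)).obj K).IsGE (a + 1) := inferInstance
  have hT := TStructure.t.triangleLTGE_distinguished (a + 1) K
  have hHa : IsZero ((homologyFunctor (ModuleCat.{u} R) a).obj X) := by
    refine (HomologySequence.exact₁ _ hT (a - 1) a (by omega)).isZero_of_both_zeros ?_ ?_
    · exact (isZero_of_isGE ((TStructure.t.truncGE (a + 1)).obj K) (a + 1) (a - 1)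
        (by omega)).eq_of_src _ _
    · exact hK.eq_of_tgt _ _
  have hXa' : X.IsLE (a - 1) := by
    rw [isLE_iff]
    intro i hi
    rcases eq_or_lt_of_le (show a ≤ i by omega) with h | h
    · rw [← h]; exact hHa
    · exact isZero_of_isLE X a i h
  have i1 : IsIso ((TStructure.t.truncLTι a).app X) :=
    (TStructure.t.isLE_iff_isIso_truncLTι_app (a - 1) a (by omega) X).1 hXa'
  have i2 : IsIso ((TStructure.t.truncLT a).map ((TStructure.t.truncLTι (a + 1)).app K)) :=
    TStructure.t.isIso_truncLT_map_truncLTι_app a (a + 1) (by omega) K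
  refine ⟨(asIso ((TStructure.t.truncLT a).map ((TStructure.t.truncLTι (a + 1)).app K))).symm ≪≫
    asIso ((TStructure.t.truncLTι a).app X), ?_⟩
  have nat := (TStructure.t.truncLTι a).naturality ((TStructure.t.truncLTι (a + 1)).app K)
  dsimp at nat ⊢
  rw [Category.assoc, ← nat, IsIso.inv_hom_id_assoc]

/-- S7004 -/
theorem s7004 (a : ℤ) (K : Dual.D R)
    (hKb : ∃ b : ℤ, ∀ i : ℤ, b < i → Subsingleton (Dual.HD R K i)) (h : VanHyp a K) :
    (∃ e : K ≅ (TStructure.t.truncLT a).obj K ⊞ (TStructure.t.truncGE (a + 1)).obj K,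
      (TStructure.t.truncLTι a).app K ≫ e.hom = biprod.inl ∧
        e.hom ≫ biprod.snd = (TStructure.t.truncGEπ (a + 1)).app K) ∧
      ∃ (P : DRing.Cx R) (b : ℤ), DRing.VanishesOutside P (a + 1) b ∧
        (∀ i : ℤ, Module.Projective R (P.X i)) ∧
        Nonempty (DRing.toD P ≅ (TStructure.t.truncGE (a + 1)).obj K) := by
  obtain ⟨⟨e', he1, he2⟩, h2⟩ := s7003 a K hKb h.injHyp
  refine ⟨?_, h2⟩
  obtain ⟨b, hb⟩ := hKb
  have hLE : K.IsLE b := by
    rw [isLE_iff]
    intro i hi
    have := hb i hi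
    exact ModuleCat.isZero_of_subsingleton _
  obtain ⟨P, hPb, hPproj, hPK, ⟨eP⟩⟩ := exists_proj_rep K b
  have hex := exactAt_of_vanHyp h P eP
  have hHa : IsZero ((homologyFunctor (ModuleCat.{u} R) a).obj K) := by
    rw [exactAt_iff_isZero_H] at hex
    exact hex.of_iso ((homologyFunctor _ a).mapIso eP.symm)
  obtain ⟨φ, hφ⟩ := exists_truncLT_iso a K hHa
  refine ⟨e' ≪≫ biprod.mapIso φ.symm (Iso.refl _), ?_, ?_⟩
  · rw [← hφ]
    simp only [Iso.trans_hom, biprod.mapIso_hom, Iso.symm_hom, Iso.refl_hom, Category.assoc]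
    rw [reassoc_of% he1]
    simp
  · simp only [Iso.trans_hom, biprod.mapIso_hom, Iso.symm_hom, Iso.refl_hom, Category.assoc,
      biprod.map_snd, Category.comp_id]
    exact he2

end Groth.Agent.Helper5.ProjAmp
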