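import Mathlib
import Groth.Agent.Lib.Helper5.ProjAmp.SplitTrunc2

set_option autoImplicit false
universe u
open CategoryTheory Limits Pretriangulated DerivedCategory ZeroObject
attribute [local instance] HasDerivedCategory.standard

namespace Groth.Agent.Helper5.ProjAmp
open Groth.Agent.Helper5.TorAmp Groth.Agent.Helper5.ToSingle Groth.Agent.Helper5.TruncTri
  Groth.Agent.Helper5.FlatAcyc
variable {R : Type u} [CommRing R]

/-- kernel of a surjection onto a projective module from a projective module is projective -/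
theorem ker_projective {M N : Type u} [AddCommGroup M] [AddCommGroup N]
    [Module R M] [Module R N] [Module.Projective R M] [Module.Projective R N]
    (f : M →ₗ[R] N) (hf : Function.Surjective f) :
    Module.Projective R (LinearMap.ker f) := by
  obtain ⟨s, hs⟩ := Module.projective_lifting_property f LinearMap.id hf
  have hs' : ∀ x, f (s x) = x := fun x => by
    have := congrArg (fun g => g x) hs
    simpa using this
  let r : M →ₗ[R] LinearMap.ker f :=
    LinearMap.codRestrict (LinearMap.ker f) (LinearMap.id - s.comp f) (by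
      intro x
      simp [LinearMap.mem_ker, hs'])
  have hr : r.comp (LinearMap.ker f).subtype = LinearMap.id := by
    ext ⟨x, hx⟩
    simp only [LinearMap.mem_ker] at hx
    simp [r, hx]
  exact Module.Projective.of_split _ r hr

theorem ker_proj' (E : DRing.Cx R) (hE : ∀ i, Module.Projective R (E.X i))
    (b : ℤ) (hb : ∀ i, b < i → IsZero (E.X i)) (m : ℤ)
    (hex : ∀ i, m < i → E.ExactAt i) :
    ∀ (k : ℕ) (j : ℤ), m ≤ j → b ≤ j + k →
        Module.Projective R (LinearMap.ker (E.d j (j+1)).hom) := by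
  intro k
  induction k with
  | zero =>
    intro j _ hbj
    have hz : IsZero (E.X (j+1)) := hb _ (by omega)
    have hd : (E.d j (j+1)).hom = 0 := by
      have : E.d j (j+1) = 0 := hz.eq_of_tgt _ _
      rw [this]; rfl
    rw [hd, LinearMap.ker_zero]
    have := hE j
    let e : (⊤ : Submodule R (E.X j)) ≃ₗ[R] E.X j := Submodule.topEquiv
    exact Module.Projective.of_equiv e.symm
  | succ k ih =>
    intro j hmj hbj
    have h2 := ih (j+1) (by omega) (by push_cast at hbj ⊢; omega)
    have hexj : E.ExactAt (j+1) := hex _ (by omega)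
    rw [HomologicalComplex.exactAt_iff' E j (j+1) (j+1+1) (by simp) (by simp)] at hexj
    rw [ShortComplex.moduleCat_exact_iff_range_eq_ker] at hexj
    replace hexj : LinearMap.range (E.d j (j+1)).hom = LinearMap.ker (E.d (j+1) (j+1+1)).hom := hexj
    have := hE j
    let f : E.X j →ₗ[R] LinearMap.ker (E.d (j+1) (j+1+1)).hom :=
      LinearMap.codRestrict _ (E.d j (j+1)).hom (by
        intro x
        rw [← hexj]
        exact ⟨x, rfl⟩)
    have hf : Function.Surjective f := by
      rintro ⟨y, hy⟩
      rw [← hexj] at hy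
      obtain ⟨x, hx⟩ := hy
      exact ⟨x, Subtype.ext hx⟩
    have hk : LinearMap.ker f = LinearMap.ker (E.d j (j+1)).hom := by
      ext x
      simp [f, LinearMap.mem_ker, Subtype.ext_iff]
    rw [← hk]
    exact ker_projective f hf

/-- top trimming of a bounded complex of projectives -/
theorem trim_top {a c : ℤ} (P : DRing.Cx R) (h1 : DRing.VanishesOutside P a c)
    (h2 : ∀ i, Module.Projective R (P.X i)) (b : ℤ) (hex : ∀ i, b < i → P.ExactAt i) :
    ∃ P' : DRing.Cx R, DRing.VanishesOutside P' a b ∧ (∀ i, Module.Projective R (P'.X i)) ∧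
      Nonempty (DRing.toD P' ≅ DRing.toD P) := by
  have hLE : P.IsLE b := by
    rw [CochainComplex.isLE_iff]
    exact hex
  have hq : QuasiIso (P.ιTruncLE b) := inferInstance
  refine ⟨P.truncLE b, ?_, ?_, ⟨asIso (Q.map (P.ιTruncLE b))⟩⟩
  · intro i hi
    rcases hi with hi | hi
    · rcases lt_trichotomy i b with h3 | h3 | h3
      · exact (h1 i (Or.inl hi)).of_iso (P.truncLEXIso b i h3)
      · subst h3
        refine IsZero.of_iso ?_ (P.truncLEXIsoCycles i)
        refine IsZero.of_mono (P.iCycles i) (h1 i (Or.inl hi))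
      · exact (P.truncLE b).isZero_of_isStrictlyLE b i h3
    · exact (P.truncLE b).isZero_of_isStrictlyLE b i hi
  · intro i
    rcases lt_trichotomy i b with h3 | h3 | h3
    · have := h2 i
      exact Module.Projective.of_equiv (P.truncLEXIso b i h3).symm.toLinearEquiv
    · subst h3
      have h4 := ker_proj' P h2 c (fun j hj => h1 j (Or.inr hj)) i hex (c - i).toNat i le_rfl (by omega)
      let e := P.truncLEXIsoCycles i ≪≫ cyclesIsoKer P i (i + 1) rfl
      exact Module.Projective.of_equiv e.symm.toLinearEquiv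
    · have : Subsingleton ((P.truncLE b).X i) :=
        ModuleCat.subsingleton_of_isZero ((P.truncLE b).isZero_of_isStrictlyLE b i h3)
      infer_instance

end Groth.Agent.Helper5.ProjAmp
namespace Groth.Agent.Helper5.ProjAmp
open Groth.Agent.Helper5.TorAmp Groth.Agent.Helper5.ToSingle Groth.Agent.Helper5.TruncTri
  Groth.Agent.Helper5.FlatAcyc
variable {R : Type u} [CommRing R]

/-- (1) ⇒ (2) of S6964 -/
theorem subsingleton_hom_of_projAmp {a b : ℤ} {K : Dual.D R} (hK : HasProjAmp a b K)
    (N : Type u) [AddCommGroup N] [Module R N] (i : ℤ) (hi : i < -b ∨ -a < i) :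
    Subsingleton (DRing.ExtD R K (Dual.inD R N) i) := by
  refine ⟨fun f g => ?_⟩
  suffices ∀ f : K ⟶ (Dual.inD R N)⟦i⟧, f = 0 by rw [this f, this g]
  intro f
  have hGE : ((Dual.inD R N)⟦i⟧).IsGE (-i) := TStructure.t.isGE_shift (Dual.inD R N) 0 i (-i) (by omega)
  have hLE : ((Dual.inD R N)⟦i⟧).IsLE (-i) := TStructure.t.isLE_shift (Dual.inD R N) 0 i (-i) (by omega)
  rcases hi with hi | hi
  · obtain ⟨P, h1, h2, ⟨e⟩⟩ := hK
    have : P.IsStrictlyLE b := isStrictlyLE_of_vanishesAbove (fun j hj => h1 j (Or.inr hj))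
    have : K.IsLE b := TStructure.t.isLE_of_iso e b
    exact TStructure.t.zero_of_isLE_of_isGE f b (-i) (by omega) this hGE
  · apply hom_eq_zero_of_projAmp hK
    intro j hj
    exact isZero_of_isLE _ (-i) j (by omega)

/-- cohomology is detected by maps to shifted modules -/
theorem isZero_H_of_vanHyp {n : ℤ} {K : Dual.D R} (h : VanHyp n K) :
    IsZero ((homologyFunctor (ModuleCat.{u} R) n).obj K) := by
  let P : DRing.Cx R := Q.objPreimage K
  let eP : DRing.toD P ≅ K := Q.objObjPreimageIso K
  let I : ModuleCat.{u} R := ModuleCat.of R ↑(Injective.under (P.homology n) : ModuleCat.{u} R)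
  have : Injective I := inferInstanceAs (Injective (Injective.under (P.homology n)))
  let j : P.homology n ⟶ I := Injective.ι (P.homology n)
  have hj : Mono j := inferInstanceAs (Mono (Injective.ι (P.homology n)))
  let g : P.opcycles n ⟶ I := Injective.factorThru j (P.homologyι n)
  have hg : P.homologyι n ≫ g = j := Injective.comp_factorThru _ _
  let φ : P.X n ⟶ I := P.pOpcycles n ≫ g
  have hφ : P.d (n - 1) n ≫ φ = 0 := by simp [φ]
  have h0 := Q_map_eq_zero_of_vanHyp h P eP _ (toSingle P n φ hφ)
  have h1 : HomologicalComplex.homologyMap (toSingle P n φ hφ) n = 0 := by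
    have nat := (homologyFunctorFactors (ModuleCat.{u} R) n).hom.naturality (toSingle P n φ hφ)
    have h5 : (Q ⋙ homologyFunctor (ModuleCat.{u} R) n).map (toSingle P n φ hφ) = 0 := by
      rw [Functor.comp_map, h0, Functor.map_zero]
    rw [h5, zero_comp] at nat
    exact (cancel_epi ((homologyFunctorFactors (ModuleCat.{u} R) n).hom.app P)).1
      (nat.symm.trans comp_zero.symm)
  have h2 : HomologicalComplex.opcyclesMap (toSingle P n φ hφ) n ≫
      (HomologicalComplex.singleObjOpcyclesSelfIso (ComplexShape.up ℤ) n I).inv = g := by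
    rw [← cancel_epi (P.pOpcycles n), HomologicalComplex.p_opcyclesMap_assoc,
      HomologicalComplex.pOpcycles_singleObjOpcyclesSelfIso_inv,
      HomologicalComplex.mkHomToSingle_f, Category.assoc, Iso.inv_hom_id, Category.comp_id]
  have h3 : j = 0 := by
    rw [← hg, ← h2, ← HomologicalComplex.homologyι_naturality_assoc, h1, zero_comp]
  have h4 : IsZero (P.homology n) := IsZero.of_mono_eq_zero j h3
  exact (h4.of_iso ((homologyFunctorFactors (ModuleCat.{u} R) n).app P)).of_iso
    ((homologyFunctor (ModuleCat.{u} R) n).mapIso eP.symm)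

end Groth.Agent.Helper5.ProjAmp

namespace Groth.Agent.Helper5.ProjAmp
open Groth.Agent.Helper5.TorAmp Groth.Agent.Helper5.ToSingle Groth.Agent.Helper5.TruncTri
  Groth.Agent.Helper5.FlatAcyc
variable {R : Type u} [CommRing R]

theorem projAmp_of_four (K : Dual.D R) (c b : ℤ)
    (h1 : ∀ n : ℤ, (n < c ∨ b < n) → IsZero ((homologyFunctor (ModuleCat.{u} R) n).obj K))
    (h2 : VanHyp c K) : HasProjAmp (c + 1) b K := by
  obtain ⟨⟨e, he1, he2⟩, P, b', hP1, hP2, ⟨eP⟩⟩ :=
    s7004 c K ⟨b, fun i hi => ModuleCat.subsingleton_of_isZero (h1 i (Or.inr hi))⟩ h2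
  have hGE : K.IsGE c := by
    rw [isGE_iff]
    intro i hi
    exact h1 i (Or.inl hi)
  have hz : IsZero ((TStructure.t.truncLT c).obj K) := TStructure.t.isZero_truncLT_obj_of_isGE c K
  let φ : K ≅ (TStructure.t.truncGE (c + 1)).obj K :=
    { hom := e.hom ≫ biprod.snd
      inv := biprod.inr ≫ e.inv
      hom_inv_id := by
        have h3 : (biprod.snd : (TStructure.t.truncLT c).obj K ⊞ (TStructure.t.truncGE (c + 1)).obj K ⟶ _) ≫
            biprod.inr = 𝟙 _ := by
          rw [← biprod.total]
          have : (biprod.fst : (TStructure.t.truncLT c).obj K ⊞ (TStructure.t.truncGE (c + 1)).obj K ⟶ _) = 0 :=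
            hz.eq_of_tgt _ _
          rw [this, zero_comp, zero_add]
        rw [Category.assoc, reassoc_of% h3, Iso.hom_inv_id]
      inv_hom_id := by
        rw [Category.assoc, Iso.inv_hom_id_assoc, biprod.inr_snd] }
  have hex : ∀ i, b < i → P.ExactAt i := by
    intro i hi
    rw [HomologicalComplex.exactAt_iff_isZero_homology]
    have h4 := h1 i (Or.inr hi)
    exact (h4.of_iso ((homologyFunctor (ModuleCat.{u} R) i).mapIso (eP ≪≫ φ.symm))).of_iso
      ((homologyFunctorFactors (ModuleCat.{u} R) i).app P).symm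
  obtain ⟨P', h5, h6, ⟨e'⟩⟩ := trim_top P hP1 hP2 b hex
  exact ⟨P', h5, h6, ⟨e' ≪≫ eP ≪≫ φ.symm⟩⟩

theorem s6964 (K : Dual.D R) (a b : ℤ) :
    [∃ P : DRing.Cx R, DRing.VanishesOutside P a b ∧ (∀ i : ℤ, Module.Projective R (P.X i)) ∧
        Nonempty (DRing.toD P ≅ K),
      ∀ (N : Type u) [AddCommGroup N] [Module R N] (i : ℤ), (i < -b ∨ -a < i) →
        Subsingleton (DRing.ExtD R K (Dual.inD R N) i),
      (∀ n : ℤ, b < n → Subsingleton (Dual.HD R K n)) ∧
        ∀ (N : Type u) [AddCommGroup N] [Module R N] (i : ℤ), -a < i → Subsingleton (DRing.ExtD R K (Dual.inD R N) i),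
      (∀ n : ℤ, (n < a - 1 ∨ b < n) → Subsingleton (Dual.HD R K n)) ∧
        ∀ (N : Type u) [AddCommGroup N] [Module R N], Subsingleton (DRing.ExtD R K (Dual.inD R N) (-a + 1))].TFAE := by
  have key : ∀ (n : ℤ), (∀ (N : Type u) [AddCommGroup N] [Module R N],
      Subsingleton (DRing.ExtD R K (Dual.inD R N) (-n))) → Subsingleton (Dual.HD R K n) := by
    intro n h
    apply ModuleCat.subsingleton_of_isZero
    apply isZero_H_of_vanHyp
    intro M _ _
    exact h M
  tfae_have 1 → 2 := fun h N _ _ i hi => subsingleton_hom_of_projAmp h N i hi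
  tfae_have 2 → 3 := by
    intro h
    exact ⟨fun n hn => key n (fun N _ _ => h N (-n) (Or.inl (by omega))),
      fun N _ _ i hi => h N i (Or.inr hi)⟩
  tfae_have 3 → 4 := by
    rintro ⟨h1, h2⟩
    refine ⟨fun n hn => ?_, fun N _ _ => h2 N _ (by omega)⟩
    rcases hn with hn | hn
    · exact key n (fun N _ _ => h2 N (-n) (by omega))
    · exact h1 n hn
  tfae_have 4 → 1 := by
    rintro ⟨h1, h2⟩
    obtain ⟨c, rfl⟩ : ∃ c, a = c + 1 := ⟨a - 1, by ring⟩
    refine projAmp_of_four K c b (fun n hn => ?_) ?_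
    · have := h1 n (by omega)
      exact ModuleCat.isZero_of_subsingleton _
    · intro M _ _
      have := h2 M
      rwa [show -(c + 1) + 1 = -c by ring] at this
  tfae_finish

end Groth.Agent.Helper5.ProjAmp
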