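import Mathlib
import Groth.Agent.Lib.Helper5.ProjAmp.TFAE
import Groth.Agent.Lib.Helper5.DRing.ToInj

set_option autoImplicit false
universe u
open CategoryTheory Limits Pretriangulated DerivedCategory ZeroObject
attribute [local instance] HasDerivedCategory.standard

namespace Groth.Agent.Helper5.InjAmp
open Groth.Agent.Helper5.TorAmp Groth.Agent.Helper5.ProjAmp Groth.Agent.Helper5.FlatAcyc
  Groth.Agent.Helper5.DRingCone
variable {R : Type u} [CommRing R]

/-- a module placed in degree `i` -/
noncomputable abbrev S (i : ℤ) (N : ModuleCat.{u} R) : DRing.Cx R :=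
  (HomologicalComplex.single (ModuleCat.{u} R) (ComplexShape.up ℤ) i).obj N

/-- the chain map `N[-i] ⟶ P` attached to `l : N ⟶ P^i` with `d ∘ l = 0` -/
noncomputable abbrev fromSingle (P : DRing.Cx R) (i : ℤ) {N : ModuleCat.{u} R} (l : N ⟶ P.X i)
    (hl : l ≫ P.d i (i + 1) = 0) : S i N ⟶ P :=
  HomologicalComplex.mkHomFromSingle l (fun j hj => by
    obtain rfl : j = i + 1 := by simp at hj; omega
    exact hl)

theorem exists_lift_of_homotopy (P : DRing.Cx R) (i : ℤ) {N : ModuleCat.{u} R} (l : N ⟶ P.X i)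
    (hl : l ≫ P.d i (i + 1) = 0) (H : Homotopy (fromSingle P i l hl) 0) (j : ℤ) (hj : j + 1 = i) :
    ∃ s : N ⟶ P.X j, l = s ≫ P.d j i := by
  have h1 := H.comm i
  rw [HomologicalComplex.mkHomFromSingle_f,
    dNext_eq _ (show (ComplexShape.up ℤ).Rel i (i + 1) from rfl),
    prevD_eq _ (show (ComplexShape.up ℤ).Rel j i from hj), HomologicalComplex.zero_f,
    add_zero, HomologicalComplex.single_obj_d, zero_comp, zero_add] at h1
  refine ⟨(HomologicalComplex.singleObjXSelf (ComplexShape.up ℤ) i N).inv ≫ H.hom i j, ?_⟩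
  rw [Category.assoc, ← h1, Iso.inv_hom_id_assoc]

theorem kproj_single_quot (i : ℤ) : (S i (ModuleCat.of R (R ⧸ (⊥ : Ideal R)))).IsKProjective := by
  apply kproj_of_proj _ i
  · intro j hj
    exact HomologicalComplex.isZero_single_obj_X (ComplexShape.up ℤ) i _ j (by omega)
  · intro j
    by_cases hj : j = i
    · subst hj
      have : Module.Projective R (R ⧸ (⊥ : Ideal R)) :=
        Module.Projective.of_equiv (Submodule.quotEquivOfEqBot (⊥ : Ideal R) rfl).symm
      exact Module.Projective.of_equiv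
        (HomologicalComplex.singleObjXSelf (ComplexShape.up ℤ) j
          (ModuleCat.of R (R ⧸ (⊥ : Ideal R)))).symm.toLinearEquiv
    · have : Subsingleton ((S i (ModuleCat.of R (R ⧸ (⊥ : Ideal R)))).X j) :=
        ModuleCat.subsingleton_of_isZero
          (HomologicalComplex.isZero_single_obj_X (ComplexShape.up ℤ) i _ j hj)
      infer_instance

/-- `Hom(R[-i], P) = 0` implies `H^i(P) = 0` -/
theorem exactAt_of_subsingleton (P : DRing.Cx R) (i : ℤ)
    (h : Subsingleton (Q.obj (S i (ModuleCat.of R (R ⧸ (⊥ : Ideal R)))) ⟶ Q.obj P)) :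
    P.ExactAt i := by
  have := kproj_single_quot (R := R) i
  refine exactAt_of_exact P (i - 1) i (i + 1) (by omega) rfl ?_
  rw [LinearMap.exact_iff]
  apply le_antisymm
  · intro z hz
    rw [LinearMap.mem_ker] at hz
    let lin : (R ⧸ (⊥ : Ideal R)) →ₗ[R] P.X i :=
      Submodule.liftQ ⊥ (LinearMap.toSpanSingleton R (P.X i) z) bot_le
    have hl : ModuleCat.ofHom lin ≫ P.d i (i + 1) = 0 := by
      refine ModuleCat.hom_ext (LinearMap.ext fun x => ?_)
      obtain ⟨r, rfl⟩ := Submodule.Quotient.mk_surjective _ x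
      show (P.d i (i + 1)).hom (lin (Submodule.Quotient.mk r)) = 0
      have : lin (Submodule.Quotient.mk r) = r • z := by
        simp only [lin, Submodule.liftQ_apply, LinearMap.toSpanSingleton_apply]
      rw [this, map_smul, hz, smul_zero]
    have h0 : Q.map (fromSingle P i (ModuleCat.ofHom lin) hl) = Q.map 0 := Subsingleton.elim _ _
    obtain ⟨H⟩ := ToSingle.nonempty_homotopy_of_Q_map_eq _ _ h0
    obtain ⟨s, hs⟩ := exists_lift_of_homotopy P i _ hl H (i - 1) (by omega)
    refine ⟨s.hom (Submodule.Quotient.mk 1), ?_⟩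
    have h5 : lin (Submodule.Quotient.mk 1) = z := by
      simp only [lin, Submodule.liftQ_apply, LinearMap.toSpanSingleton_apply, one_smul]
    have := congrArg (fun t => t.hom (Submodule.Quotient.mk (1 : R))) hs
    change lin (Submodule.Quotient.mk 1) = (P.d (i - 1) i).hom (s.hom (Submodule.Quotient.mk 1)) at this
    rw [h5] at this
    exact this.symm
  · rintro _ ⟨y, rfl⟩
    rw [LinearMap.mem_ker]
    have := congrArg (fun f => f.hom y) (P.d_comp_d (i - 1) i (i + 1))
    exact this

/-- Baer's criterion at the top of a K-injective complex -/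
theorem injective_ker (J : DRing.Cx R) [J.IsKInjective] (b : ℤ) (hJ : Module.Injective R (J.X b))
    (h : ∀ I : Ideal R, Subsingleton (Q.obj (S (b + 1) (ModuleCat.of R (R ⧸ I))) ⟶ Q.obj J)) :
    Module.Injective R (LinearMap.ker (J.d b (b + 1)).hom) := by
  apply Module.Baer.injective
  intro I f
  obtain ⟨g, hg⟩ := Module.Baer.of_injective hJ I ((LinearMap.ker (J.d b (b + 1)).hom).subtype ∘ₗ f)
  have hkill : I ≤ LinearMap.ker ((J.d b (b + 1)).hom ∘ₗ g) := by
    intro x hx
    rw [LinearMap.mem_ker, LinearMap.comp_apply, hg x hx]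
    exact (f ⟨x, hx⟩).2
  let hh : (R ⧸ I) →ₗ[R] J.X (b + 1) := Submodule.liftQ I ((J.d b (b + 1)).hom ∘ₗ g) hkill
  have hhmk : ∀ r : R, hh (Submodule.Quotient.mk r) = (J.d b (b + 1)).hom (g r) := fun r => by
    simp only [hh, Submodule.liftQ_apply, LinearMap.comp_apply]
  have hl : ModuleCat.ofHom hh ≫ J.d (b + 1) (b + 1 + 1) = 0 := by
    refine ModuleCat.hom_ext (LinearMap.ext fun x => ?_)
    obtain ⟨r, rfl⟩ := Submodule.Quotient.mk_surjective _ x
    show (J.d (b + 1) (b + 1 + 1)).hom (hh (Submodule.Quotient.mk r)) = 0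
    rw [hhmk]
    have := congrArg (fun t => t.hom (g r)) (J.d_comp_d b (b + 1) (b + 1 + 1))
    exact this
  have h0 : Q.map (fromSingle J (b + 1) (ModuleCat.ofHom hh) hl) = Q.map 0 :=
    (h I).elim _ _
  obtain ⟨H⟩ := ToInj.nonempty_homotopy_of_Q_map_eq _ _ h0
  obtain ⟨s, hs⟩ := exists_lift_of_homotopy J (b + 1) _ hl H b rfl
  let g' : R →ₗ[R] J.X b := g - s.hom ∘ₗ I.mkQ
  have hg' : ∀ x, (J.d b (b + 1)).hom (g' x) = 0 := by
    intro x
    have := congrArg (fun t => t.hom (Submodule.Quotient.mk x)) hs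
    change hh (Submodule.Quotient.mk x) = (J.d b (b + 1)).hom (s.hom (Submodule.Quotient.mk x)) at this
    simp only [g', LinearMap.sub_apply, LinearMap.comp_apply, map_sub, Submodule.mkQ_apply]
    rw [← this, hhmk, sub_self]
  refine ⟨LinearMap.codRestrict (LinearMap.ker (J.d b (b + 1)).hom) g' (fun x => LinearMap.mem_ker.2 (hg' x)), ?_⟩
  intro x hx
  apply Subtype.ext
  have h1 : (Submodule.Quotient.mk x : R ⧸ I) = 0 := (Submodule.Quotient.mk_eq_zero I).2 hx
  simp only [LinearMap.codRestrict_apply, g', LinearMap.sub_apply, LinearMap.comp_apply,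
    Submodule.mkQ_apply]
  rw [h1, map_zero, sub_zero, hg x hx]
  rfl

/-- `Hom(N[0], K[i]) ≃ Hom(N[-i], K)` -/
noncomputable def extEquiv (N : ModuleCat.{u} R) (K : Dual.D R) (i : ℤ) :
    ((singleFunctor (ModuleCat.{u} R) 0).obj N ⟶ K⟦i⟧) ≃ (Q.obj (S i N) ⟶ K) :=
  ((shiftEquiv' (Dual.D R) (-i) i (by omega)).toAdjunction.homEquiv _ _).symm.trans
    ((θ i N).homFromEquiv)

theorem subsingleton_ext_iff (N : Type u) [AddCommGroup N] [Module R N] (K : Dual.D R) (i : ℤ) :
    Subsingleton (DRing.ExtD R (Dual.inD R N) K i) ↔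
      Subsingleton (Q.obj (S i (ModuleCat.of R N)) ⟶ K) :=
  (extEquiv (ModuleCat.of R N) K i).subsingleton_congr

theorem isKInjective_of_injAmp {a b : ℤ} (E : DRing.Cx R) (h1 : DRing.VanishesOutside E a b)
    (h2 : DRing.TermwiseInjective E) : E.IsKInjective := by
  have : E.IsStrictlyGE a := by
    rw [CochainComplex.isStrictlyGE_iff]
    exact fun i hi => h1 i (Or.inl hi)
  have : ∀ n, Injective (E.X n) := fun n => by
    have := h2 n
    exact Module.injective_object_of_injective_module R (E.X n)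
  exact CochainComplex.isKInjective_of_injective E a

/-- (1) ⇒ (2) of S6965 -/
theorem subsingleton_ext_of_injAmp {a b : ℤ} {K : Dual.D R} (hK : DRing.HasInjAmplitudeIn R a b K)
    (N : Type u) [AddCommGroup N] [Module R N] (i : ℤ) (hi : i < a ∨ b < i) :
    Subsingleton (DRing.ExtD R (Dual.inD R N) K i) := by
  rw [subsingleton_ext_iff]
  obtain ⟨E, h1, h2, ⟨e⟩⟩ := hK
  have := isKInjective_of_injAmp E h1 h2
  refine ⟨fun f g => ?_⟩
  suffices ∀ f : Q.obj (S i (ModuleCat.of R N)) ⟶ K, f = 0 by rw [this f, this g]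
  intro f
  have h3 : f ≫ e.inv = 0 := by
    apply ToInj.hom_eq_zero_of_disjoint
    intro j
    by_cases hj : j = i
    · subst hj; exact Or.inr (h1 j hi)
    · exact Or.inl (HomologicalComplex.isZero_single_obj_X (ComplexShape.up ℤ) i _ j hj)
  have h4 : f = (f ≫ e.inv) ≫ e.hom := by
    rw [Category.assoc, Iso.inv_hom_id, Category.comp_id]
  rw [h4, h3, zero_comp]


theorem module_injective_of_injective (X : ModuleCat.{u} R) [Injective X] :
    Module.Injective R X :=
  Module.injective_module_of_injective_object R X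

/-- (3) ⇒ (1) of S6965 -/
theorem injAmp_of_three (K : Dual.D R) (a b : ℤ)
    (h : ∀ (I : Ideal R) (i : ℤ), (i < a ∨ b < i) →
      Subsingleton (DRing.ExtD R (Dual.inD R (R ⧸ I)) K i)) :
    DRing.HasInjAmplitudeIn R a b K := by
  have h' : ∀ (I : Ideal R) (i : ℤ), (i < a ∨ b < i) →
      Subsingleton (Q.obj (S i (ModuleCat.of R (R ⧸ I))) ⟶ K) :=
    fun I i hi => (subsingleton_ext_iff _ K i).1 (h I i hi)
  have hH : ∀ i, (i < a ∨ b < i) → IsZero ((homologyFunctor (ModuleCat.{u} R) i).obj K) := by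
    intro i hi
    let P : DRing.Cx R := Q.objPreimage K
    let eP : Q.obj P ≅ K := Q.objObjPreimageIso K
    have : Subsingleton (Q.obj (S i (ModuleCat.of R (R ⧸ (⊥ : Ideal R)))) ⟶ Q.obj P) :=
      (eP.homToEquiv).subsingleton_congr.2 (h' ⊥ i hi)
    have hex := exactAt_of_subsingleton P i this
    rw [HomologicalComplex.exactAt_iff_isZero_homology] at hex
    exact (hex.of_iso ((homologyFunctorFactors (ModuleCat.{u} R) i).app P)).of_iso
      ((homologyFunctor (ModuleCat.{u} R) i).mapIso eP.symm)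
  have hGE : K.IsGE a := by
    rw [isGE_iff]
    exact fun i hi => hH i (Or.inl hi)
  obtain ⟨P, hP, ⟨eP⟩⟩ := exists_iso_Q_obj_of_isGE K a
  obtain ⟨J, ι, hι, hJ, hJa⟩ :=
    CochainComplex.Plus.modelCategoryQuillen.exists_quasiIso_injective P a
  let eJ : Q.obj J ≅ K := (asIso (Q.map ι)).symm ≪≫ eP.symm
  have : J.IsKInjective := CochainComplex.isKInjective_of_injective J a
  have hex : ∀ i, b < i → J.ExactAt i := by
    intro i hi
    rw [HomologicalComplex.exactAt_iff_isZero_homology]
    exact ((hH i (Or.inr hi)).of_iso ((homologyFunctor (ModuleCat.{u} R) i).mapIso eJ)).of_iso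
      ((homologyFunctorFactors (ModuleCat.{u} R) i).app J).symm
  have hLE : J.IsLE b := by
    rw [CochainComplex.isLE_iff]
    exact hex
  have hq : QuasiIso (J.ιTruncLE b) := inferInstance
  refine ⟨J.truncLE b, ?_, ?_, ⟨asIso (Q.map (J.ιTruncLE b)) ≪≫ eJ⟩⟩
  · intro i hi
    rcases hi with hi | hi
    · rcases lt_trichotomy i b with h3 | h3 | h3
      · exact (J.isZero_of_isStrictlyGE a i hi).of_iso (J.truncLEXIso b i h3)
      · subst h3
        refine IsZero.of_iso ?_ (J.truncLEXIsoCycles i)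
        exact IsZero.of_mono (J.iCycles i) (J.isZero_of_isStrictlyGE a i hi)
      · exact (J.truncLE b).isZero_of_isStrictlyLE b i h3
    · exact (J.truncLE b).isZero_of_isStrictlyLE b i hi
  · intro i
    rcases lt_trichotomy i b with h3 | h3 | h3
    · have : Injective ((J.truncLE b).X i) := Injective.of_iso (J.truncLEXIso b i h3).symm (hJ i)
      exact module_injective_of_injective _
    · subst h3
      have h4 : Module.Injective R (LinearMap.ker (J.d i (i + 1)).hom) := by
        apply injective_ker J i (module_injective_of_injective _)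
        intro I
        exact (eJ.homToEquiv).subsingleton_congr.2 (h' I (i + 1) (Or.inr (by omega)))
      have h5 : Injective (ModuleCat.of R (LinearMap.ker (J.d i (i + 1)).hom)) :=
        Module.injective_object_of_injective_module R _
      let e := J.truncLEXIsoCycles i ≪≫ cyclesIsoKer J i (i + 1) rfl
      have : Injective ((J.truncLE i).X i) := Injective.of_iso e.symm h5
      exact module_injective_of_injective _
    · have : Injective ((J.truncLE b).X i) :=
        ((J.truncLE b).isZero_of_isStrictlyLE b i h3).injective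
      exact module_injective_of_injective _

theorem s6965 (K : Dual.D R) (a b : ℤ) :
    [DRing.HasInjAmplitudeIn R a b K,
      ∀ (N : Type u) [AddCommGroup N] [Module R N] (i : ℤ), (i < a ∨ b < i) →
        Subsingleton (DRing.ExtD R (Dual.inD R N) K i),
      ∀ (I : Ideal R) (i : ℤ), (i < a ∨ b < i) → Subsingleton (DRing.ExtD R (Dual.inD R (R ⧸ I)) K i)].TFAE := by
  tfae_have 1 → 2 := fun h N _ _ i hi => subsingleton_ext_of_injAmp h N i hi
  tfae_have 2 → 3 := fun h I i hi => h (R ⧸ I) i hi
  tfae_have 3 → 1 := fun h => injAmp_of_three K a b h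
  tfae_finish

end Groth.Agent.Helper5.InjAmp
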